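import Cfsg.Agent.Lib.Comp.XG2.T03

set_option maxRecDepth 100000
set_option Elab.async false

namespace Cfsg.Lib.Comp.XG2

universe u

theorem T0_fin : finB 8192 T0_n [1,2,3,4,5,6,7,8,9,10,11,12,13,14,15,16,17,18,19] 7371 (runH 8192 T0_n (tbk 13 4 prs13 T0_n 1024) iv T0_R [] ([1,2,3,4,5,6,7,8,9,10,11,12,13].map fun x => [x]) 0 []
  (apd [80,84,88,92,96,100,104,108,112,116,120,124,128,132,136,140,144,148,152,156,160,164,168,172,176,180,184,188,192,0,4,8,12,16,20,24,28,32,36,40,44,48,52,56,60,64,68,72,76,80,84,88,92,96,100,104,108,112,116,120]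
 (apd [124,128,132,136,140,144,148,152,156,160,164,168,172,176,180,184,188,192,0,4,8,12,16,20,24,28,32,36,40,44,48,52,56,60,64,68,72,76,80,84,88,92,96,100,104,108,112,116,120,124,128,132,136,140,144,148,152,156,160,164]
 (apd [168,172,176,180,184,188,192,0,4,8,12,16,20,24,28,32,36,40,44,48,52,56,60,64,68,72,76,80,84,88,92,96,100,104,108,112,116,120,124,128,132,136,140,144,148,152,156,160,164,168,172,176,180,184,188,192,0,4,8,12]
 (apd [16,20,24,28,32,36,40,44,48,52,56,60,64,68,72,76,80,84,88,92,96,100,104,108,112,116,120,124,128,132,136,140,144,148,152,156,160,164,168,172,176,180,184,188,192,0,4,8,12,16,20,24,28,32,36,40,44,48,52,56]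
 (apd [60,64,68,72,76,80,84,88,92,96,100,104,108,112,116,120,124,128,132,136,140,144,148,152,156,160,164,168,172,176,180,184,188,192,0,4,8,12,16,20,24,28,32,36,40,44,48,52,56,60,64,68,72,76,80,84,88,92,96,100]
 (apd [104,108,112,116,120,124,128,132,136,140,144,148,152,156,160,164,168,172,176,180,184,188,192,0,4,8,12,16,20,24,28,32,36,40,44,48,52,56,60,64,68,72,76,80,84,88,92,96,100,104,108,112,116,120,124,128,132,136,140,144]
 (apd [148,152,156,160,164,168,172,176,180,184,188,192,0,4,8,12,16,20,24,28,32,36,40,44,48,52,56,60,64,68,72,76,80,84,88,92,96,100,104,108,112,116,120,124,128,132,136,140,144,148,152,156,160,164,168,172,176,180,184,188]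
 (apd [192,0,4,8,12,16,20,24,28,32,36,40,44,48,52,56,60,64,68,72,76,80,84,88,92,96,100,104,108,112,116,120,124,128,132,136,140,144,148,152,156,160,164,168,172,176,180,184,188,192,0,8,12,16,20,24,28,32,36,40]
 [44,48,52,56,60,64,68,72,76,80,84,88,92,96,100,104,108,112,116,120,124,128,132,136,140,144,148,152,156,160,164,168,172,176,180,184,188,192,0,8,12,16,20,24,28,32,36,40,44,48,52,56,60,68,80,84,108,112,128,132]))))))))
  T0_K2) = true := by decide +kernel

theorem T0_idx : Idx.{u} iv (T0_R ++ []) ([1,2,3,4,5,6,7,8,9,10,11,12,13].map fun x => [x]) [1,2,3,4,5,6,7,8,9,10,11,12,13,14,15,16,17,18,19] 7371 :=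
  Reach.idx T0_n_ok (reach_runH T0_n_ok (tbk_eq tr13 (by norm_num) (by norm_num) (by norm_num) T0_n_ok) T0_n_rel T0_K2_reach _ _) T0_fin (by norm_num)

end Cfsg.Lib.Comp.XG2
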